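import Groth.Prelude.Def_EtBase
import Groth.Agent.AnLib.FlatLan
import Mathlib

/-!
Inverse image of abelian etale sheaves is left exact; direct image preserves injectives.
-/

universe u

open CategoryTheory CategoryTheory.Limits AlgebraicGeometry

namespace Groth.Agent.EtPullExact

theorem bc_preservesFiniteLimits {X Y : Scheme.{u}} (f : X ⟶ Y) :
    PreservesFiniteLimits (EtCoh.bc f) := inferInstance

theorem pull_preservesFiniteLimits {X Y : Scheme.{u}} (f : X ⟶ Y) [EtCoh.BCCont f] :
    PreservesFiniteLimits (EtCoh.pull f) := by
  have := bc_preservesFiniteLimits f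
  have : RepresentablyFlat (EtCoh.bc f) := flat_of_preservesFiniteLimits _
  exact AnLib.sheafPullback_preservesFiniteLimits _ _ _

theorem push_injective {X Y : Scheme.{u}} (f : X ⟶ Y) [EtCoh.BCCont f] (I : EtCoh.Ab X) [Injective I] :
    Injective ((EtCoh.push f).obj I) := by
  have := pull_preservesFiniteLimits f
  have : (EtCoh.pull f).PreservesMonomorphisms := inferInstance
  exact Injective.injective_of_adjoint (EtCoh.pullPushAdj f) I

theorem presheaf_injective {X : Scheme.{u}} (I : EtCoh.Ab X) [Injective I] : Injective I.obj :=
  Injective.injective_of_adjoint (sheafificationAdjunction _ AddCommGrpCat.{u + 1}) I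

end Groth.Agent.EtPullExact
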